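import Groth.Agent.BunMod.K892.CstCoh
import Groth.Agent.BunMod.K311.Lift
import Groth.Agent.BunMod.K140.Asm3
import Mathlib.RingTheory.DualNumber

/-!
# Lifting first order families to the atlas, with the identity on the special fibre

`HasLift Q Z E`: a family `M` over `k[ε]` satisfying `Q` with an isomorphism `ρ : i^*M ≅ z^*E` is the pull-back of `E`
along a point `v : Spec k[ε] ⟶ Z` over `z`, by an isomorphism inducing `ρ`.
* `main`: for the scheme of good Kronecker modules of a subproblem.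
-/

set_option autoImplicit false
universe u

open CategoryTheory CategoryTheory.Limits AlgebraicGeometry

namespace K892.HasLift

open Groth.Agent Groth.Agent.LoccohB.HHmap Groth.Agent.LoccohB.SectLin303 K140.BM K311.KE K311.Bas K311.Fam
  K311.Van K311.KVan K311.Lift K822.XTD K892.CstCoh

variable {k : Type u} [Field k] {X : Scheme.{u}} [X.Over (Spec (CommRingCat.of k))]

/-- Lifting of first order families. -/
def _root_.K892.HasLift (Q : ∀ T : Over (B0 k), (ModFun.modProb (st k X)).Fam T → Prop) (Z : Over (B0 k))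
    (E : (PicF.XT (st k X) Z).Modules) : Prop :=
  ∀ (z : T0 k ⟶ Z) (M : (PicF.XT (st k X) (Te k)).Modules) (_ : Q (Te k) M)
    (ρ : (Scheme.Modules.pullback (dt k X).i).obj M ≅ pl k X z E),
    ∃ (v : Te k ⟶ Z) (hv : iT k ≫ v = z) (φ : pl k X v E ≅ M),
      (Scheme.Modules.pullback (dt k X).i).map φ.hom ≫ ρ.hom = (rv hv E).hom

/-- The identification of the constant family on the special fibre. -/
noncomputable def c0 (L : X.Modules) :
    cst k (T0 k) L ≅ (Scheme.Modules.pullback (dt k X).i).obj (cst k (Te k) L) := cstI (iT k) L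

theorem c0_nat {L L' : X.Modules} (s : L ⟶ L') :
    cm (T0 k) s ≫ (c0 L').hom = (c0 L).hom ≫ (Scheme.Modules.pullback (dt k X).i).map (cm (Te k) s) :=
  cstI_nat (iT k) s

theorem c0_coh {T : Over (B0 k)} {z : T0 k ⟶ T} {v : Te k ⟶ T} (hv : iT k ≫ v = z) (L : X.Modules) :
    (cstI z L).hom = (c0 L).hom ≫
      (Scheme.Modules.pullback (dt k X).i).map (cstI v L).hom ≫ (rv hv (cst k T L)).hom := cstI_coh hv L

variable (k X) in
theorem isPullback_i : IsPullback (dt k X).i (PicF.XTproj (st k X) (T0 k)) (PicF.XTproj (st k X) (Te k))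
    (iT k).left := K311.KE.isPullback_XTmap (iT k)

theorem map_i_lin {A M : (PicF.XT (st k X) (Te k)).Modules} {n : ℕ} (c : Fin n → Γ((Te k).left, ⊤))
    (e : Fin n → (A ⟶ M)) : (Scheme.Modules.pullback (dt k X).i).map (∑ l, fT k X (Te k) (c l) • e l) =
      ∑ l, (PicF.XTproj (st k X) (T0 k)).appTop ((iT k).left.appTop (c l)) •
        (Scheme.Modules.pullback (dt k X).i).map (e l) := pull_lin (iT k) c e

theorem subsingleton_Te : Subsingleton (Te k).left := by
  have h : ∀ p : PrimeSpectrum (DualNumber k), p.asIdeal = Ideal.span {DualNumber.eps} := fun p => by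
    have h1 : (DualNumber.eps : DualNumber k) ∈ p.asIdeal := by
      have h2 : (DualNumber.eps : DualNumber k) * DualNumber.eps ∈ p.asIdeal := by
        rw [DualNumber.eps_mul_eps]
        exact p.asIdeal.zero_mem
      exact (p.isPrime.mem_or_mem h2).elim id id
    exact ((DualNumber.isMaximal_span_singleton_eps (K := k)).eq_of_le p.isPrime.ne_top
      ((Ideal.span_singleton_le_iff_mem _).2 h1)).symm
  have h3 : Subsingleton (PrimeSpectrum (DualNumber k)) :=
    ⟨fun p q => PrimeSpectrum.ext ((h p).trans (h q).symm)⟩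
  exact h3

theorem eq_top {U : (Te k).left.Opens} {x : (Te k).left} (hx : x ∈ U) (y : (Te k).left) : y ∈ U := by
  have := subsingleton_Te (k := k)
  rwa [Subsingleton.elim y x]

variable [IsProper (X ↘ Spec (CommRingCat.of k))] [Smooth (X ↘ Spec (CommRingCat.of k))]

/-- A basis of the special fibre lifts to a universal basis. -/
theorem exists_basis {A M : (PicF.XT (st k X) (Te k)).Modules} (h : VanFam (PicF.XTproj (st k X) (Te k)) A M)
    {n : ℕ} {w : Fin n → ((Scheme.Modules.pullback (dt k X).i).obj A ⟶ (Scheme.Modules.pullback (dt k X).i).obj M)}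
    (hb : SB (PicF.XTproj (st k X) (T0 k)) w) :
    ∃ e : Fin n → (A ⟶ M), SBOn (PicF.XTproj (st k X) (Te k)) Set.univ e ∧
      ∀ l, (Scheme.Modules.pullback (dt k X).i).map (e l) = w l := by
  obtain ⟨U, -, hxU, hloc⟩ := h.exists_local (iT k).left (isPullback_i k X) hb (default : PrimeSpectrum k)
  obtain ⟨e', he'⟩ := hloc (𝟙 _) (PicF.XTproj (st k X) (Te k)) (𝟙 _) (IsPullback.of_horiz_isIso ⟨by simp⟩)
    (fun s => eq_top hxU _)
  have he0 := sbOn_iso ((Scheme.Modules.pullbackId _).symm.app A) ((Scheme.Modules.pullbackId _).app M) he'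
  generalize (fun l => ((Scheme.Modules.pullbackId _).symm.app A).hom ≫ e' l ≫
    ((Scheme.Modules.pullbackId _).app M).hom) = e0 at he0
  have h1 := he0 _ _ _ (isPullback_i k X) fun _ => trivial
  choose c hc using fun l => h1.2 (w l)
  dsimp only at hc
  have hq : ∀ x : Γ((T0 k).left, ⊤), (iT k).left.appTop ((qT k).left.appTop x) = x := fun x => by
    have h2 := congrArg (fun t => t.left.appTop x) (iT_qT k)
    rw [Over.comp_left, Scheme.Hom.comp_appTop] at h2
    refine h2.trans ?_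
    rw [Over.id_left, Scheme.Hom.id_appTop]
    rfl
  have h3 : ∀ l, (Scheme.Modules.pullback (dt k X).i).map
      (∑ j, fT k X (Te k) ((qT k).left.appTop (c l j)) • e0 j) = w l := fun l => by
    rw [map_i_lin, ← hc]
    refine Finset.sum_congr rfl fun j _ => ?_
    rw [hq]
  refine ⟨fun l => ∑ j, fT k X (Te k) ((qT k).left.appTop (c l j)) • e0 j, ?_, h3⟩
  obtain ⟨U', hx', hU'⟩ := h.exists_near (e := fun l => ∑ j, fT k X (Te k) ((qT k).left.appTop (c l j)) • e0 j)
    (iT k).left (isPullback_i k X) (by simpa only [h3] using hb) (default : PrimeSpectrum k)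
  have h4 : (U' : Set (Te k).left) = Set.univ := Set.eq_univ_of_forall fun y => eq_top hx' y
  rwa [h4] at hU'

variable {S : KSet X} {r a b : ℕ} (hS : KFit k S r a b)

theorem good {K : KRep (k := k) S.toKDat r a b} {Q : ∀ T : Over (B0 k), (ModFun.modProb (st k X)).Fam T → Prop}
    (R : SubRep K Q) : KGood S.toKDat r R.Z (R.kr (𝟙 R.Z)) := by
  have h : R.kr (𝟙 R.Z) = kmap R.i.left.appTop.hom (kcrd k K.j) := by
    rw [← kcrd_comp, SubRep.kr, SubRep.j, Over.id_left, Category.id_comp]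
  rw [h]
  exact kgood_pull R.i K.good

/-- The transported tautological maps. -/
noncomputable def w₀ {Z : Over (B0 k)} (z : T0 k ⟶ Z) {L : X.Modules} {E : (PicF.XT (st k X) Z).Modules}
    {M : (PicF.XT (st k X) (Te k)).Modules} (ρ : (Scheme.Modules.pullback (dt k X).i).obj M ≅ pl k X z E)
    (e : cst k Z L ⟶ E) : (Scheme.Modules.pullback (dt k X).i).obj (cst k (Te k) L) ⟶
      (Scheme.Modules.pullback (dt k X).i).obj M :=
  ((c0 L).symm ≪≫ cstI z L).hom ≫ (Scheme.Modules.pullback (PicF.XTmap (st k X) z)).map e ≫ ρ.symm.hom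

theorem sb_w₀ {Z : Over (B0 k)} (z : T0 k ⟶ Z) {L : X.Modules} {E : (PicF.XT (st k X) Z).Modules}
    {M : (PicF.XT (st k X) (Te k)).Modules} (ρ : (Scheme.Modules.pullback (dt k X).i).obj M ≅ pl k X z E)
    {n : ℕ} {e : Fin n → (cst k Z L ⟶ E)} (h : SBOn (PicF.XTproj (st k X) Z) Set.univ e) :
    SB (PicF.XTproj (st k X) (T0 k)) (fun l => w₀ z ρ (e l)) := by
  have h1 := h _ _ _ (K311.KE.isPullback_XTmap z) fun _ => trivial
  rw [SB.iso_iff _ ((c0 L).symm ≪≫ cstI z L) ρ.symm] at h1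
  exact h1

theorem w₀_nat {Z : Over (B0 k)} (z : T0 k ⟶ Z) {L L' : X.Modules} {E : (PicF.XT (st k X) Z).Modules}
    {M : (PicF.XT (st k X) (Te k)).Modules} (ρ : (Scheme.Modules.pullback (dt k X).i).obj M ≅ pl k X z E)
    (s : L ⟶ L') (e : cst k Z L' ⟶ E) :
    (Scheme.Modules.pullback (dt k X).i).map (cm (Te k) s) ≫ w₀ z ρ e = w₀ z ρ (cm Z s ≫ e) := by
  have h1 : (Scheme.Modules.pullback (dt k X).i).map (cm (Te k) s) ≫ (c0 L').inv = (c0 L).inv ≫ cm (T0 k) s := by
    rw [Iso.comp_inv_eq, Category.assoc, c0_nat, Iso.inv_hom_id_assoc]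
  unfold w₀
  rw [Iso.trans_hom, Iso.trans_hom, Iso.symm_hom, Iso.symm_hom, Iso.symm_hom, Functor.map_comp]
  simp only [Category.assoc]
  rw [reassoc_of% h1, ← reassoc_of% (cstI_nat z s)]

theorem w₀_sum {Z : Over (B0 k)} (z : T0 k ⟶ Z) {L : X.Modules} {E : (PicF.XT (st k X) Z).Modules}
    {M : (PicF.XT (st k X) (Te k)).Modules} (ρ : (Scheme.Modules.pullback (dt k X).i).obj M ≅ pl k X z E)
    {n : ℕ} (c : Fin n → Γ(Z.left, ⊤)) (e : Fin n → (cst k Z L ⟶ E)) :
    w₀ z ρ (∑ l, fT k X Z (c l) • e l) =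
      ∑ l, (PicF.XTproj (st k X) (T0 k)).appTop (z.left.appTop (c l)) • w₀ z ρ (e l) := by
  unfold w₀
  rw [pull_lin, Preadditive.sum_comp, Preadditive.comp_sum]
  refine Finset.sum_congr rfl fun l _ => ?_
  rw [Linear.smul_comp, Linear.comp_smul]

/-- Recovering the tautological maps. -/
theorem rv_w₀ {Z : Over (B0 k)} {z : T0 k ⟶ Z} {v : Te k ⟶ Z} (hv : iT k ≫ v = z) {L : X.Modules}
    {E : (PicF.XT (st k X) Z).Modules}
    {M : (PicF.XT (st k X) (Te k)).Modules} (ρ : (Scheme.Modules.pullback (dt k X).i).obj M ≅ pl k X z E)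
    (e : cst k Z L ⟶ E) (φ : pl k X v E ⟶ M) (e' : cst k (Te k) L ⟶ M)
    (h : (cstI v L).hom ≫ (Scheme.Modules.pullback (PicF.XTmap (st k X) v)).map e ≫ φ = e')
    (he : (Scheme.Modules.pullback (dt k X).i).map e' = w₀ z ρ e) :
    (Scheme.Modules.pullback (PicF.XTmap (st k X) z)).map e ≫ (rv hv E).inv ≫
      (Scheme.Modules.pullback (dt k X).i).map φ ≫ ρ.hom = (Scheme.Modules.pullback (PicF.XTmap (st k X) z)).map e := by
  have h1 : (Scheme.Modules.pullback (PicF.XTmap (st k X) z)).map e ≫ (rv hv E).inv =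
      (rv hv (cst k Z L)).inv ≫
        (Scheme.Modules.pullback (dt k X).i).map ((Scheme.Modules.pullback (PicF.XTmap (st k X) v)).map e) := by
    rw [Iso.comp_inv_eq, Category.assoc, ← rv_natural, Iso.inv_hom_id_assoc]
  have h2 : (Scheme.Modules.pullback (PicF.XTmap (st k X) v)).map e ≫ φ = (cstI v L).inv ≫ e' := by
    rw [← h, Iso.inv_hom_id_assoc]
  have h3 : (Scheme.Modules.pullback (dt k X).i).map ((Scheme.Modules.pullback (PicF.XTmap (st k X) v)).map e) ≫
      (Scheme.Modules.pullback (dt k X).i).map φ =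
      (Scheme.Modules.pullback (dt k X).i).map (cstI v L).inv ≫ w₀ z ρ e := by
    rw [← Functor.map_comp, h2, Functor.map_comp, he]
  rw [← Category.assoc, h1, Category.assoc, reassoc_of% h3]
  unfold w₀
  rw [Iso.trans_hom, Iso.symm_hom, Iso.symm_hom]
  simp only [Category.assoc]
  rw [Iso.inv_hom_id, Category.comp_id, c0_coh hv]
  simp only [Category.assoc]
  rw [Iso.inv_hom_id_assoc]
  have h4 : (Scheme.Modules.pullback (dt k X).i).map (cstI v L).inv ≫
      (Scheme.Modules.pullback (dt k X).i).map (cstI v L).hom = 𝟙 _ := by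
    rw [← Functor.map_comp, Iso.inv_hom_id]
    exact CategoryTheory.Functor.map_id _ _
  rw [reassoc_of% h4, Iso.inv_hom_id_assoc]

include hS in
theorem core {Z : Over (B0 k)} {α : Kr a b S.h Γ(Z.left, ⊤)} (hα : KGood S.toKDat r Z α)
    {Q : ∀ T : Over (B0 k), (ModFun.modProb (st k X)).Fam T → Prop} (hQ : SubProb k X r Q)
    (hinj : ∀ c c' : T0 k ⟶ Z, kmap c.left.appTop.hom α = kmap c'.left.appTop.hom α → c = c')
    (hlift : ∀ β : Kr a b S.h Γ((Te k).left, ⊤), KGood S.toKDat r (Te k) β → Q (Te k) (KE S.toKDat (Te k) β) →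
      ∃ v : Te k ⟶ Z, kmap v.left.appTop.hom α = β) : HasLift Q Z (KE S.toKDat Z α) := by
  intro z M hM ρ
  have hMu := hQ.le _ _ hM
  obtain ⟨hv0, hw0⟩ := kgood_sbOn hS hα
  have hb₁ := sb_w₀ z ρ hv0
  have hb₂ := sb_w₀ z ρ hw0
  obtain ⟨e₁, he₁, he₁'⟩ := exists_basis (vanFam₁ hS hMu) hb₁
  obtain ⟨e₂, he₂, he₂'⟩ := exists_basis (vanFam₂ hS hMu) hb₂
  obtain ⟨β, φ, hβ, hβ1, hβ2⟩ := exists_kgood hS hMu he₁ he₂
  obtain ⟨v, hvβ⟩ := hlift β hβ (hQ.iso _ _ _ ⟨φ.symm⟩ hM)
  have hv : iT k ≫ v = z := by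
    apply hinj
    have h0 : kmap (iT k ≫ v).left.appTop.hom α = kmap (iT k).left.appTop.hom β := by
      rw [← hvβ, kmap_kmap, Over.comp_left, Scheme.Hom.comp_appTop]
      rfl
    rw [h0]
    funext i
    ext j l
    have h1 := @hb₂.1 (fun j => (iT k).left.appTop (β i j l)) (fun j => z.left.appTop (α i j l)) ?_
    · exact congrFun h1 j
    · dsimp only
      have h2 : cm (Te k) (S.s i) ≫ e₁ l = ∑ j, fT k X (Te k) (β i j l) • e₂ j := by
        rw [← hβ1, ← Category.assoc, rel_eq, Preadditive.sum_comp]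
        refine Finset.sum_congr rfl fun j _ => ?_
        rw [Linear.smul_comp, hβ2]
      have h3 := congrArg (Scheme.Modules.pullback (dt k X).i).map h2
      rw [Functor.map_comp, map_i_lin, he₁'] at h3
      simp only [he₂'] at h3
      rw [← h3, w₀_nat, rel_eq, w₀_sum]
  obtain ⟨e, hev, hew⟩ := exists_bc S.toKDat α v
  subst hvβ
  have hf : (rv hv (KE S.toKDat Z α)).inv ≫
      (Scheme.Modules.pullback (dt k X).i).map (e.inv ≫ φ.hom) ≫ ρ.hom = 𝟙 _ := by
    refine pull_hom_ext S.toKDat (PicF.XTmap (st k X) z) (fun l => ?_) (fun j => ?_)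
    · refine Eq.trans ?_ (Category.comp_id _).symm
      refine rv_w₀ hv ρ (KE.v S.toKDat Z α l) (e.inv ≫ φ.hom) (e₁ l) ?_ (he₁' l)
      rw [← Category.assoc, ← hev, Category.assoc, Iso.hom_inv_id_assoc, hβ1]
    · refine Eq.trans ?_ (Category.comp_id _).symm
      refine rv_w₀ hv ρ (KE.w S.toKDat Z α j) (e.inv ≫ φ.hom) (e₂ j) ?_ (he₂' j)
      rw [← Category.assoc, ← hew, Category.assoc, Iso.hom_inv_id_assoc, hβ2]
  refine ⟨v, hv, e.symm ≪≫ φ, ?_⟩
  rw [Iso.inv_comp_eq, Category.comp_id] at hf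
  exact hf

include hS in
/-- **Lifting of first order families** for the scheme of good Kronecker modules of a subproblem. -/
theorem main {K : KRep (k := k) S.toKDat r a b} {Q : ∀ T : Over (B0 k), (ModFun.modProb (st k X)).Fam T → Prop}
    (R : SubRep K Q) (hQ : SubProb k X r Q) : HasLift Q R.Z R.E := by
  refine core hS (good R) hQ (fun c c' h => R.kr_inj ?_) fun β hβ hβ' => ?_
  · rwa [← R.kr_eq, ← R.kr_eq] at h
  · obtain ⟨v, hv⟩ := R.exists_kr β hβ hβ'
    exact ⟨v, (R.kr_eq v).symm.trans hv⟩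

theorem subProb_all (r : ℕ) : SubProb k X r (BunMod.ussOK (st k X) r 0) :=
  ⟨fun _ _ h => h, fun _ _ _ h h' => ussOK_congr h.some h', fun g _ h => ussOK_pull g h⟩

include hS in
/-- The whole problem. -/
theorem main_all (K : KRep (k := k) S.toKDat r a b) :
    HasLift (BunMod.ussOK (st k X) r 0) (subAll K).Z (subAll K).E := main hS (subAll K) (subProb_all r)

include hS in
/-- The whole problem, in terms of `KRep`. -/
theorem main_rep (K : KRep (k := k) S.toKDat r a b) :
    HasLift (BunMod.ussOK (st k X) r 0) K.Z (KE S.toKDat K.Z (kcrd k K.j)) := by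
  refine core hS K.good (subProb_all r) (fun c c' h => ?_) fun β hβ _ => ?_
  · apply Over.OverMorphism.ext
    have := K.imm
    rw [← cancel_mono K.j]
    apply kcrd_ext _
    · rwa [← kcrd_comp, ← kcrd_comp] at h
    · rw [Category.assoc, Category.assoc, K.w, Over.w, Over.w]
  · obtain ⟨c, hc⟩ := K.lift _ β hβ
    refine ⟨c, ?_⟩
    rw [← hc, kcrd_comp]

end K892.HasLift
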