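import Groth.Agent.BunMod.K892.LinDet
import Groth.Agent.VBCurve.K703.Twist
import Groth.Agent.VBCurve.K703.HomFin
import Groth.Agent.VBCurve.K706.HomFin
import Groth.Agent.VBCurve.K708.Dual
import Groth.Agent.LoccohB.HHmap
import Groth.Agent.Dcoh.Spread
import Groth.Agent.Krr.H495.Rank
import Groth.Prelude.Def_ModFun2

/-!
# Determinants of endomorphisms of a semistable bundle of degree zero

`E` a semistable vector bundle of degree `0` on a proper integral curve `X` over an algebraically closed field `k`,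
`L`, `Q` coherent with `χ(L) = χ(Q)` and `H¹(E ⊗ L) = 0 = H¹(E ⊗ Q)`.  Every endomorphism of `E` has the same
determinant on `H⁰(E ⊗ L)` and on `H⁰(E ⊗ Q)` (`det_eq`, `det_eq_sections`).
-/

set_option autoImplicit false
universe u v w
open CategoryTheory CategoryTheory.Limits AlgebraicGeometry MonoidalCategory Opposite

namespace K892.DetAut

open scoped Groth.Agent.Dcoh.MonCat
open Groth.Agent Groth.Agent.LoccohB

section Rep

variable (k : Type u) [Field k] {X : Scheme.{u}} [X.Over (Spec (CommRingCat.of k))]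

/-- The map on cohomology, linear. -/
noncomputable def hl {F G : X.Modules} (f : F ⟶ G) (p : ℕ) : Coh.HH X F p →ₗ[k] Coh.HH X G p :=
  { HHmap.map f p with
    map_smul' := fun a x => HHmap.map_smul_over f a p x }

theorem hl_apply {F G : X.Modules} (f : F ⟶ G) (p : ℕ) (x : Coh.HH X F p) : hl k f p x = HHmap.map f p x := rfl

theorem hl_comp {F G H : X.Modules} (f : F ⟶ G) (g : G ⟶ H) (p : ℕ) : hl k (f ≫ g) p = hl k g p ∘ₗ hl k f p :=
  LinearMap.ext fun x => HHmap.map_comp f g p x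

theorem hl_id (F : X.Modules) (p : ℕ) : hl k (𝟙 F) p = LinearMap.id :=
  LinearMap.ext fun x => HHmap.map_id F p x

theorem hl_add {F G : X.Modules} (f g : F ⟶ G) (p : ℕ) : hl k (f + g) p = hl k f p + hl k g p :=
  LinearMap.ext fun x => HHmap.map_add f g p x

theorem hl_smul {F G : X.Modules} (a : k) (f : F ⟶ G) (p : ℕ) : hl k (a • f) p = a • hl k f p := by
  refine LinearMap.ext fun x => ?_
  change HHmap.map (Formal.smulMod k F a ≫ f) p x = a • HHmap.map f p x
  rw [HHmap.map_comp, ← HHmap.map_smul_over]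
  rfl

/-- The action of `End E` on `H^p(E ⊗ L)`. -/
noncomputable def rho (E L : X.Modules) (p : ℕ) : CategoryTheory.End E →ₐ[k] Module.End k (Coh.HH X (E ⊗ L) p) :=
  AlgHom.ofLinearMap
    { toFun := fun f => hl k ((f : E ⟶ E) ▷ L) p
      map_add' := fun f g => by
        rw [← hl_add, ← MonoidalPreadditive.add_whiskerRight]
      map_smul' := fun a f => by
        rw [RingHom.id_apply, ← hl_smul, ← K706.HomFin.smul_whiskerRight] }
    (by
      change hl k ((𝟙 E : E ⟶ E) ▷ L) p = _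
      rw [id_whiskerRight, hl_id]
      rfl)
    (fun f g => by
      change hl k (((g : E ⟶ E) ≫ (f : E ⟶ E)) ▷ L) p = hl k ((f : E ⟶ E) ▷ L) p ∘ₗ hl k ((g : E ⟶ E) ▷ L) p
      rw [comp_whiskerRight, hl_comp])

theorem rho_apply (E L : X.Modules) (p : ℕ) (f : E ⟶ E) (x : Coh.HH X (E ⊗ L) p) :
    rho k E L p f x = HHmap.map (f ▷ L) p x := rfl

/-- The rank of the projection on a direct summand. -/
theorem finrank_range {E E' L : X.Modules} (p : ℕ) (i : E' ⟶ E) (q : E ⟶ E') (h : i ≫ q = 𝟙 E') :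
    Module.finrank k (LinearMap.range (rho k E L p (q ≫ i))) = Module.finrank k (Coh.HH X (E' ⊗ L) p) := by
  have h1 : rho k E L p (q ≫ i) = hl k (i ▷ L) p ∘ₗ hl k (q ▷ L) p := by
    rw [← hl_comp, ← comp_whiskerRight]
    rfl
  have h2 : hl k (q ▷ L) p ∘ₗ hl k (i ▷ L) p = LinearMap.id := by
    rw [← hl_comp, ← comp_whiskerRight, h, id_whiskerRight, hl_id]
  have h3 : Function.Surjective (hl k (q ▷ L) p) := fun x => ⟨hl k (i ▷ L) p x, LinearMap.congr_fun h2 x⟩
  have h4 : Function.Injective (hl k (i ▷ L) p) := fun x y hxy => by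
    have h5 := congrArg (hl k (q ▷ L) p) hxy
    exact ((LinearMap.congr_fun h2 x).symm.trans h5).trans (LinearMap.congr_fun h2 y)
  rw [h1, LinearMap.range_comp, LinearMap.range_eq_top.2 h3, Submodule.map_top]
  exact LinearMap.finrank_range_of_inj h4

/-- Cohomology of a direct summand. -/
theorem subsingleton_retract {E E' L : X.Modules} (p : ℕ) (i : E' ⟶ E) (q : E ⟶ E') (h : i ≫ q = 𝟙 E')
    (hE : Subsingleton (Coh.HH X (E ⊗ L) p)) : Subsingleton (Coh.HH X (E' ⊗ L) p) := by
  have h2 : ∀ x : Coh.HH X (E' ⊗ L) p, HHmap.map (q ▷ L) p (HHmap.map (i ▷ L) p x) = x := fun x => by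
    rw [← HHmap.map_comp, ← comp_whiskerRight, h, id_whiskerRight, HHmap.map_id]
  exact ⟨fun x y => by rw [← h2 x, ← h2 y, hE.elim (HHmap.map (i ▷ L) p x) (HHmap.map (i ▷ L) p y)]⟩

end Rep

section Curve

variable (k : Type u) [Field k] [IsAlgClosed k] {X : Scheme.{u}} [X.Over (Spec (CommRingCat.of k))]
  [IsIntegral X] [IsProper (X ↘ (Spec (CommRingCat.of k)))]

omit [IsIntegral X] in
/-- The complement of a direct summand. -/
theorem exists_compl {E E' : X.Modules} (i : E' ⟶ E) (q : E ⟶ E') (h : i ≫ q = 𝟙 E') :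
    ∃ (E'' : X.Modules) (j : E'' ⟶ E) (s : E ⟶ E'') (w : i ≫ s = 0), j ≫ s = 𝟙 E'' ∧
      (ShortComplex.mk i s w).ShortExact := by
  have hid : (𝟙 E - q ≫ i) ≫ (𝟙 E - q ≫ i) = 𝟙 E - q ≫ i := by
    have h1 : q ≫ i ≫ q ≫ i = q ≫ i := by rw [← Category.assoc i q i, h, Category.id_comp]
    rw [Preadditive.comp_sub, Preadditive.sub_comp, Preadditive.sub_comp, Category.comp_id, Category.comp_id,
      Category.id_comp, Category.assoc, h1]
    abel
  obtain ⟨E'', j, s, hjs, hsj⟩ := IsIdempotentComplete.idempotents_split E _ hid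
  have w : i ≫ s = 0 := by
    have h1 : i ≫ s ≫ j = 0 := by
      rw [hsj, Preadditive.comp_sub, Category.comp_id, ← Category.assoc, h, Category.id_comp, sub_self]
    have h2 : (i ≫ s) ≫ j ≫ s = 0 := by rw [← Category.assoc, Category.assoc i s j, h1, zero_comp]
    rwa [hjs, Category.comp_id] at h2
  refine ⟨E'', j, s, w, hjs, ?_⟩
  have hq : j ≫ q = 0 := by
    have h1 : s ≫ j ≫ q = 0 := by
      rw [← Category.assoc, hsj, Preadditive.sub_comp, Category.id_comp, Category.assoc, h, Category.comp_id,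
        sub_self]
    have h2 : j ≫ s ≫ j ≫ q = 0 := by rw [h1, comp_zero]
    rwa [← Category.assoc, hjs, Category.id_comp] at h2
  exact (ShortComplex.Splitting.mk (S := ShortComplex.mk i s w) q j h hjs (by
    rw [hsj]
    abel)).shortExact

omit [IsAlgClosed k] in
/-- A direct summand of a semistable bundle of degree `0` has degree `0`. -/
theorem deg_summand {E E' : X.Modules} {r r' : ℕ} (hE : FlatMod.IsFinLocFreeOfRank r E)
    (hss : ModFun.IsSlopeSemistable k X E r) (hdeg : Curv2.deg k X E r = 0)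
    (i : E' ⟶ E) (q : E ⟶ E') (h : i ≫ q = 𝟙 E') (hE' : FlatMod.IsFinLocFreeOfRank r' E') :
    Curv2.deg k X E' r' = 0 := by
  obtain ⟨E'', j, s, w, hjs, hS⟩ := exists_compl i q h
  obtain ⟨r'', hE''⟩ := Groth.Agent.Krr.H495.Rank.exists_rank_of_connected
    (Groth.Agent.Dcoh.Spread.isFinLocFree_of_retract j s hjs (K703.Basic.isFinLocFree_of_rank hE))
  have hr : r = r' + r'' := Groth.Agent.Krr.H495.Rank.rank_unique hE
    (Groth.Agent.Krr.H495.Rank.rank_shortExact hS hE' hE'')
  have hadd := K703.Basic.deg_add k hS (K703.Basic.isCoh_of_rank hE') (K703.Basic.isCoh_of_rank hE'') r' r''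
  change Curv2.deg k X E (r' + r'') = Curv2.deg k X E' r' + Curv2.deg k X E'' r'' at hadd
  rw [← hr, hdeg] at hadd
  have key : ∀ {F : X.Modules} {n : ℕ} (a : F ⟶ E) (b : E ⟶ F), a ≫ b = 𝟙 F →
      FlatMod.IsFinLocFreeOfRank n F → n ≤ r → Curv2.deg k X F n ≤ 0 := fun {F n} a b hab hF hn => by
    rcases Nat.eq_zero_or_pos n with rfl | hn0
    · have hz := Groth.Agent.Krr.H495.Rank.isZero_of_rank_zero hF
      have hS' : (ShortComplex.mk (𝟙 F) (0 : F ⟶ F) comp_zero).ShortExact :=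
        (ShortComplex.Splitting.mk (S := ShortComplex.mk (𝟙 F) (0 : F ⟶ F) comp_zero) (𝟙 F) 0
          (Category.comp_id _) (hz.eq_of_src _ _) (hz.eq_of_src _ _)).shortExact
      have h1 := K703.Basic.deg_add k hS' (K703.Basic.isCoh_of_rank hF) (K703.Basic.isCoh_of_rank hF) 0 0
      change Curv2.deg k X F 0 = Curv2.deg k X F 0 + Curv2.deg k X F 0 at h1
      omega
    · have : Mono a := mono_of_mono_fac hab
      have h1 := hss F n a this hn0 hF
      rw [hdeg, zero_mul] at h1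
      have h2 : (0 : ℤ) < r := by exact_mod_cast lt_of_lt_of_le hn0 hn
      exact nonpos_of_mul_nonpos_left h1 h2
  have h1 := key i q h hE' (by omega)
  have h2 := key j s hjs hE'' (by omega)
  omega

/-- Every endomorphism of a semistable bundle `E` of degree `0` has the same determinant on `H⁰(E ⊗ L)` and on
`H⁰(E ⊗ Q)`, if `χ(L) = χ(Q)` and `H¹(E ⊗ L) = 0 = H¹(E ⊗ Q)`. -/
theorem det_eq (hdim : topologicalKrullDim X = 1) {E L Q : X.Modules} {r : ℕ}
    (hE : FlatMod.IsFinLocFreeOfRank r E) (hss : ModFun.IsSlopeSemistable k X E r) (hdeg : Curv2.deg k X E r = 0)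
    (hL : Coh.IsCoh L) (hQ : Coh.IsCoh Q) (hχ : Curv2.euler k X L = Curv2.euler k X Q)
    (h1L : Subsingleton (Coh.HH X (CohB1.tensorMod E L) 1)) (h1Q : Subsingleton (Coh.HH X (CohB1.tensorMod E Q) 1))
    (φ : E ⟶ E) : LinearMap.det (rho k E L 0 φ) = LinearMap.det (rho k E Q 0 φ) := by
  have hN : IsNoetherian X := K703.Basic.isNoetherian k X
  have hflf := K703.Basic.isFinLocFree_of_rank hE
  have hcoh := K703.Basic.isCoh_of_rank hE
  have hEL : Coh.IsCoh (CohB1.tensorMod E L) := Groth.Agent.VarietyA.LocFreeTens.isCoh_tensor hE hL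
  have hEQ : Coh.IsCoh (CohB1.tensorMod E Q) := Groth.Agent.VarietyA.LocFreeTens.isCoh_tensor hE hQ
  have : Module.Finite k (Coh.HH X (E ⊗ L) 0) := K703.Chi.finite_H k hEL 0
  have : Module.Finite k (Coh.HH X (E ⊗ Q) 0) := K703.Chi.finite_H k hEQ 0
  have : Module.Finite k (E ⟶ E) := K703.HomFin.finite_hom k E E hcoh hcoh
  have hfin : Module.Finite k (CategoryTheory.End E) := this
  refine LinDet.det_eq (rho k E L 0) (rho k E Q 0) φ (Algebra.IsIntegral.isIntegral (R := k) φ) fun e he => ?_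
  obtain ⟨E', i, q, hiq, hqi⟩ := IsIdempotentComplete.idempotents_split E (e : E ⟶ E) he
  have h1 := finrank_range k (L := L) 0 i q hiq
  have h2 := finrank_range k (L := Q) 0 i q hiq
  rw [hqi] at h1 h2
  obtain ⟨r', hE'⟩ := Groth.Agent.Krr.H495.Rank.exists_rank_of_connected
    (Groth.Agent.Dcoh.Spread.isFinLocFree_of_retract i q hiq hflf)
  have hd := deg_summand k hE hss hdeg i q hiq hE'
  have key : ∀ {F : X.Modules}, Coh.IsCoh F → Subsingleton (Coh.HH X (CohB1.tensorMod E F) 1) →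
      (Module.finrank k (Coh.HH X (E' ⊗ F) 0) : ℤ) = r' * Curv2.euler k X F := fun {F} hF hE1 => by
    have h3 := Groth.Agent.VarietyA.DegRank.euler_tensor_curve k hdim.le r' E' hE' F hF
    have h4 := subsingleton_retract (L := F) 1 i q hiq hE1
    have h5 : Module.finrank k (Coh.HH X (E' ⊗ F) 1) = 0 := Module.finrank_zero_of_subsingleton
    have h6 := Groth.Agent.CurvesB.CurveRR.euler_eq k X hdim.le (CohB1.tensorMod E' F)
    rw [hd, mul_zero, zero_add] at h3
    rw [h3] at h6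
    rw [h6]
    change _ = _ - (Module.finrank k (Coh.HH X (E' ⊗ F) 1) : ℤ)
    rw [h5, Nat.cast_zero, sub_zero]
    rfl
  have h3 := key hL h1L
  have h4 := key hQ h1Q
  rw [hχ, ← h4] at h3
  refine (Eq.trans h1 ?_).trans h2.symm
  exact_mod_cast h3

omit [IsAlgClosed k] [IsIntegral X] [IsProper (X ↘ (Spec (CommRingCat.of k)))] in
/-- The determinant on `H⁰` in terms of global sections. -/
theorem det_rho {E L : X.Modules} (φ : E ⟶ E) {V : Type v} [AddCommGroup V] [Module k V]
    (e : Γ(CohB1.tensorMod E L, ⊤) ≃+ V) (he : ∀ (c : k) x, e (CurvesB.HZero.gl k X c • x) = c • e x)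
    (a : V →ₗ[k] V) (ha : ∀ x, a (e x) = e (((DCoh.tensorRightMod L).map φ).app ⊤ x)) :
    LinearMap.det a = LinearMap.det (rho k E L 0 φ) := by
  let θ : Coh.HH X (E ⊗ L) 0 ≃ₗ[k] V :=
    { (CurvesB.HZero.equivAdd (CohB1.tensorMod E L)).trans e with
      map_smul' := fun c x =>
        (congrArg e (CurvesB.HZero.equivAdd_smul_over (CohB1.tensorMod E L) c x)).trans (he c _) }
  have h1 : a = θ.toLinearMap ∘ₗ rho k E L 0 φ ∘ₗ θ.symm.toLinearMap := by
    refine LinearMap.ext fun y => ?_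
    obtain ⟨x, rfl⟩ := θ.surjective y
    simp only [LinearMap.comp_apply, LinearEquiv.coe_coe, LinearEquiv.symm_apply_apply]
    change a (e (CurvesB.HZero.equivAdd (CohB1.tensorMod E L) x)) =
      e (CurvesB.HZero.equivAdd (CohB1.tensorMod E L) (rho k E L 0 φ x))
    rw [ha]
    congr 1
    exact (CurvesB.HZero.equivAdd_map ((DCoh.tensorRightMod L).map φ) x).symm
  rw [h1, LinearMap.det_conj]

/-- `det_eq` in terms of global sections. -/
theorem det_eq_sections (hdim : topologicalKrullDim X = 1) {E L Q : X.Modules} {r : ℕ}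
    (hE : FlatMod.IsFinLocFreeOfRank r E) (hss : ModFun.IsSlopeSemistable k X E r) (hdeg : Curv2.deg k X E r = 0)
    (hL : Coh.IsCoh L) (hQ : Coh.IsCoh Q) (hχ : Curv2.euler k X L = Curv2.euler k X Q)
    (h1L : Subsingleton (Coh.HH X (CohB1.tensorMod E L) 1)) (h1Q : Subsingleton (Coh.HH X (CohB1.tensorMod E Q) 1))
    (φ : E ⟶ E) {V : Type v} [AddCommGroup V] [Module k V] {W : Type w} [AddCommGroup W] [Module k W]
    (e : Γ(CohB1.tensorMod E L, ⊤) ≃+ V) (he : ∀ (c : k) x, e (CurvesB.HZero.gl k X c • x) = c • e x)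
    (a : V →ₗ[k] V) (ha : ∀ x, a (e x) = e (((DCoh.tensorRightMod L).map φ).app ⊤ x))
    (e' : Γ(CohB1.tensorMod E Q, ⊤) ≃+ W) (he' : ∀ (c : k) x, e' (CurvesB.HZero.gl k X c • x) = c • e' x)
    (b : W →ₗ[k] W) (hb : ∀ x, b (e' x) = e' (((DCoh.tensorRightMod Q).map φ).app ⊤ x)) :
    LinearMap.det a = LinearMap.det b := by
  rw [det_rho k φ e he a ha, det_rho k φ e' he' b hb]
  exact det_eq k hdim hE hss hdeg hL hQ hχ h1L h1Q φ

end Curve

end K892.DetAut
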