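import Groth.Agent.BunMod.K562.AdmExt
import Groth.Agent.BunMod.K774.D1f

/-!
# Admissible filtered first order deformations

`C : 0 ⟶ E₁ ⟶ E ⟶ E₂ ⟶ 0` a short exact sequence of locally free modules on `X`, `N₀` an invertible module, `Q` the
problem of semistable families (`uss`) or the one of semistable families with fixed determinant (`ussDet`).

* `AdmFilt Q C N₀`: there are enough admissible filtered first order deformations of `E`: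
  `sur`: every class in `Ext¹(E₁, E₂)` is the image of the class of an admissible extension of `E` by `E`;
  `sub`: for `0 ≠ s ∈ H⁰(E₁ ⊗ N₀)` and `β ∈ H¹(E₁ ⊗ N₀)` there is an admissible extension of `E` by `E` with class
  inducing `ε ∈ Ext¹(E₁, E₁)` with connecting map `s ↦ β`;
  `quo`: the same for `E₂`.
* `uss`, `ussDet`: this holds for the two problems.  For the fixed determinant the trace is corrected on the other piece.
-/

set_option autoImplicit false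

universe w u

open CategoryTheory CategoryTheory.Limits AlgebraicGeometry TopologicalSpace Opposite Abelian

namespace K892.AdmFilt

open Groth.Agent.PerfC.ExtZero (TF)
open Groth.Agent.PerfA.TFMV K774.LocHom K774.CechExt K774.Sec
open K140.BM K822 K822.EMod K822.XTD
open Groth.Agent.VarietyB.TensLoc (IsBasis exists_isBasis)
open Groth.Agent.CohqB.HSeqMod (hmap δ)

section General

variable {X : Scheme.{u}}

/-- Endomorphisms with given trace. -/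
theorem exists_trace {R M : Type*} [CommRing R] [AddCommGroup M] [Module R M] {n : ℕ}
    (b : Module.Basis (Fin (n + 1)) R M) (c : R) : ∃ l : M →ₗ[R] M, LinearMap.trace R M l = c := by
  classical
  refine ⟨b.constr R (fun i => if i = 0 then c • b 0 else 0), ?_⟩
  rw [LinearMap.trace_eq_matrix_trace _ b, Matrix.trace]
  simp only [Matrix.diag_apply, LinearMap.toMatrix_apply, Module.Basis.constr_basis]
  rw [Finset.sum_eq_single (0 : Fin (n + 1))]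
  · rw [if_pos rfl, map_smul, b.repr_self]
    simp
  · intro i _ hi
    rw [if_neg hi, map_zero, Finsupp.zero_apply]
  · intro h
    exact absurd (Finset.mem_univ _) h

/-- Endomorphisms over an affine open with given trace. -/
theorem exists_sec_trace {A : X.Modules} (hA : Coh.IsQCoh A) {D V : X.Opens} (hD : IsAffineOpen D) (hDV : D ≤ V)
    {n : ℕ} {e : Fin (n + 1) → Γ(A, V)} (he : IsBasis A V e) (c : Γ(X, D)) :
    ∃ b : (TF D).obj A ⟶ A, LinearMap.trace Γ(X, D) Γ(A, D) (sec b le_rfl) = c := by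
  obtain ⟨l, hl⟩ := exists_trace (he.basis hDV) c
  obtain ⟨b, hb⟩ := exists_sec (B := A) hA hD l
  exact ⟨b, by rw [hb, hl]⟩

theorem free_of_isBasis {A : X.Modules} {D V : X.Opens} (hDV : D ≤ V) {n : ℕ} {e : Fin n → Γ(A, V)}
    (he : IsBasis A V e) : Module.Free Γ(X, D) Γ(A, D) ∧ Module.Finite Γ(X, D) Γ(A, D) :=
  ⟨Module.Free.of_basis (he.basis hDV), Module.Finite.of_basis (he.basis hDV)⟩

/-- The endomorphisms `φ` of `E` over `U ⊓ V` with trace zero, with a frame of `E` over `V`. -/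
def Tr (E : X.Modules) (r : ℕ) (U V : X.Opens) (φ : (TF (U ⊓ V)).obj E ⟶ E) : Prop :=
  ∃ b : Fin r → Γ(E, V), IsBasis E V b ∧
    LinearMap.trace Γ(X, (U ⊓ V : X.Opens)) Γ(E, U ⊓ V) (sec φ le_rfl) = 0

/-- Common frames on a nonempty open. -/
theorem exists_frames [IsIntegral X] {A B : X.Modules} {m n : ℕ} (hA : FlatMod.IsFinLocFreeOfRank m A)
    (hB : FlatMod.IsFinLocFreeOfRank n B) :
    ∃ (W : X.Opens) (_ : genericPoint X ∈ W) (e : Fin m → Γ(A, W)) (f : Fin n → Γ(B, W)),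
      IsBasis A W e ∧ IsBasis B W f := by
  obtain ⟨V₁, h1, e, he⟩ := exists_isBasis hA (genericPoint X)
  obtain ⟨V₂, h2, f, hf⟩ := exists_isBasis hB (genericPoint X)
  exact ⟨V₁ ⊓ V₂, ⟨h1, h2⟩, _, _, he.restrict inf_le_left, hf.restrict inf_le_right⟩

variable [IsIntegral X] [X.IsSeparated] [IsNoetherian X] (hdim : topologicalKrullDim X ≤ 1)
include hdim

/-- Affine covers with frames of three modules. -/
theorem exists_cover {A B C : X.Modules} {l m n : ℕ} (hA : FlatMod.IsFinLocFreeOfRank l A)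
    (hB : FlatMod.IsFinLocFreeOfRank m B) (hC : FlatMod.IsFinLocFreeOfRank n C) :
    ∃ (U V : X.Opens) (_ : IsAffineOpen U) (_ : IsAffineOpen V) (_ : U ⊔ V = ⊤) (a : Fin l → Γ(A, V))
      (b : Fin m → Γ(B, V)) (c : Fin n → Γ(C, V)), IsBasis A V a ∧ IsBasis B V b ∧ IsBasis C V c := by
  obtain ⟨W, hgW, b, c, hb, hc⟩ := exists_frames hB hC
  obtain ⟨W₁, h1, a, ha⟩ := exists_isBasis hA (genericPoint X)
  obtain ⟨_, ⟨V, hV, rfl⟩, hxV, hle⟩ := X.isBasis_affineOpens.exists_subset_of_mem_open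
    (show genericPoint X ∈ ((W₁ ⊓ W : X.Opens) : Set X) from ⟨h1, hgW⟩) (W₁ ⊓ W).isOpen
  obtain ⟨U, hU, hUV⟩ := K774.CurveCov.exists_pair hdim V ⟨_, hxV⟩
  have hle' : V ≤ W₁ ⊓ W := hle
  exact ⟨U, V, hU, hV, hUV, _, _, _, ha.restrict (hle'.trans inf_le_left), hb.restrict (hle'.trans inf_le_right),
    hc.restrict (hle'.trans inf_le_right)⟩

/-- Affine covers with frames of three modules, the first adapted to a morphism. -/
theorem exists_cover_adapted {L A B C : X.Modules} {l m n : ℕ} (hL : FlatMod.IsFinLocFreeOfRank 1 L)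
    (hA : FlatMod.IsFinLocFreeOfRank (l + 1) A) (σ : L ⟶ A) (hσ : σ ≠ 0)
    (hB : FlatMod.IsFinLocFreeOfRank m B) (hC : FlatMod.IsFinLocFreeOfRank n C) :
    ∃ (U V : X.Opens) (_ : IsAffineOpen U) (_ : IsAffineOpen V) (_ : U ⊔ V = ⊤) (v : Fin 1 → Γ(L, V))
      (a : Fin (l + 1) → Γ(A, V)) (b : Fin m → Γ(B, V)) (c : Fin n → Γ(C, V)),
      IsBasis L V v ∧ IsBasis A V a ∧ σ.app V (v 0) = a 0 ∧ IsBasis B V b ∧ IsBasis C V c := by
  obtain ⟨W, hW, b, c, hb, hc⟩ := exists_frames hB hC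
  obtain ⟨V, hVW, hV, hne, v, a, hv, ha, h0⟩ := K774.CurveCov.exists_frame hL hA σ hσ (W := W) ⟨_, hW⟩
  obtain ⟨U, hU, hUV⟩ := K774.CurveCov.exists_pair hdim V hne
  exact ⟨U, V, hU, hV, hUV, v, a, _, _, hv, ha, h0, hb.restrict hVW, hc.restrict hVW⟩

/-- `ext_surj` with frames of two further modules. -/
theorem exists_end [HasExt.{w} X.Modules] {L A B C : X.Modules} {l m n : ℕ} (hL : FlatMod.IsFinLocFreeOfRank 1 L)
    (hA : FlatMod.IsFinLocFreeOfRank (l + 1) A) (σ : L ⟶ A) (hσ : σ ≠ 0)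
    (hB : FlatMod.IsFinLocFreeOfRank m B) (hC : FlatMod.IsFinLocFreeOfRank n C) (y : Ext.{w} L A 1) :
    ∃ (U V : X.Opens) (_ : IsAffineOpen U) (_ : IsAffineOpen V) (hUV : U ⊔ V = ⊤)
      (a : Fin (l + 1) → Γ(A, V)) (b : Fin m → Γ(B, V)) (c : Fin n → Γ(C, V)) (_ : IsBasis A V a) (_ : IsBasis B V b)
      (_ : IsBasis C V c) (φ : (TF (U ⊓ V)).obj A ⟶ A), (Ext.mk₀ σ).comp (cls.{w} hUV φ) (zero_add 1) = y := by
  obtain ⟨U, V, hU, hV, hUV, v, a, b, c, hv, ha, h0, hb, hc⟩ := exists_cover_adapted hdim hL hA σ hσ hB hC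
  have hLf := K774.D1.isFinLocFree hL
  have hAf := K774.D1.isFinLocFree hA
  obtain ⟨ψ, hψ⟩ := exists_cls.{w} hUV hU hV (K774.D1.isQCoh hLf) (K774.D1.isQCoh hAf) (K774.D1.projective hLf hU)
    (K774.D1.projective hLf hV) y
  have hD : IsAffineOpen (U ⊓ V) := hU.inf hV
  obtain ⟨φ, hφ⟩ := exists_factor (B := A) (K774.D1.isQCoh hAf) (K774.D1.isQCoh hLf) hD (inf_le_right : U ⊓ V ≤ V) σ ha
    hv h0 ψ
  exact ⟨U, V, hU, hV, hUV, a, b, c, ha, hb, hc, φ, by rw [comp_cls, hφ, hψ]⟩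

variable {C : ShortComplex X.Modules} (hC : C.ShortExact) {r n₁ n₃ : ℕ}
  (h1 : FlatMod.IsFinLocFreeOfRank (n₁ + 1) C.X₁) (h2 : FlatMod.IsFinLocFreeOfRank r C.X₂)
  (h3 : FlatMod.IsFinLocFreeOfRank (n₃ + 1) C.X₃)
include hC h1 h2 h3

/-- `Ext¹(E, E) → Ext¹(E₁, E₂)` is onto on classes of traceless Čech extensions. -/
theorem exists_sur [HasExt.{w} X.Modules] (x : Ext.{w} C.X₁ C.X₃ 1) :
    ∃ (U V : X.Opens) (hUV : U ⊔ V = ⊤) (φ : (TF (U ⊓ V)).obj C.X₂ ⟶ C.X₂), Tr C.X₂ r U V φ ∧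
      (Ext.mk₀ C.f).comp ((cls hUV φ).comp (Ext.mk₀ C.g) (add_zero 1)) (zero_add 1) = x := by
  obtain ⟨U, V, hU, hV, hUV, a, b, c, ha, hb, hc⟩ := exists_cover hdim h1 h2 h3
  obtain ⟨φ, hφ, ht⟩ := K774.D1f.ext_surj_sub_quot.{w} hUV hU hV (hU.inf hV) hC (K774.D1.isFinLocFree h1)
    (K774.D1.isFinLocFree h3) x
  obtain ⟨f2, g2⟩ := free_of_isBasis (inf_le_right : U ⊓ V ≤ V) hb
  obtain ⟨f3, g3⟩ := free_of_isBasis (inf_le_right : U ⊓ V ≤ V) hc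
  exact ⟨U, V, hUV, φ, ⟨b, hb, ht f2 g2 f3 g3⟩, hφ⟩

/-- Traceless filtered classes with given connecting map on `E₁`. -/
theorem exists_sub [HasExt.{w} X.Modules] {N : X.Modules} (hN : PicF.IsInvertible N)
    (s : Coh.HH X ((K774.D1.tw N).obj C.X₁) 0) (hs : s ≠ 0) (β : Coh.HH X ((K774.D1.tw N).obj C.X₁) 1) :
    ∃ (U V : X.Opens) (hUV : U ⊔ V = ⊤) (φ : (TF (U ⊓ V)).obj C.X₂ ⟶ C.X₂) (ε : Ext.{w} C.X₁ C.X₁ 1), Tr C.X₂ r U V φ ∧
      (Ext.mk₀ C.f).comp (cls.{w} hUV φ) (zero_add 1) = ε.comp (Ext.mk₀ C.f) (add_zero 1) ∧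
      ∀ {G₁ : X.Modules} (f₁ : C.X₁ ⟶ G₁) (g₁ : G₁ ⟶ C.X₁) (w₁ : f₁ ≫ g₁ = 0)
        (hS₁ : (ShortComplex.mk f₁ g₁ w₁).ShortExact)
        (hSN : ((ShortComplex.mk f₁ g₁ w₁).map (K774.D1.tw N)).ShortExact), hS₁.extClass = ε → δ hSN 0 s = β := by
  obtain ⟨N', hN', ⟨e⟩⟩ := K774.D1.exists_inv hN
  obtain ⟨σ, hsσ⟩ := K774.D1.exists_sec_hom.{w} e s
  obtain ⟨y, hy⟩ := K774.D1.exists_ext.{w} hN e β
  have hσ : σ ≠ 0 := by
    intro h0
    apply hs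
    rw [hsσ, h0, Functor.map_zero, Groth.Agent.CohqB.HSeqMod.hmap_zero_apply]
  obtain ⟨U, V, hU, hV, hUV, a, b, c, ha, hb, hc, b₁, hb₁⟩ := exists_end hdim hN' h1 σ hσ h2 h3 y
  obtain ⟨f1, g1⟩ := free_of_isBasis (inf_le_right : U ⊓ V ≤ V) ha
  obtain ⟨f2, g2⟩ := free_of_isBasis (inf_le_right : U ⊓ V ≤ V) hb
  obtain ⟨f3, g3⟩ := free_of_isBasis (inf_le_right : U ⊓ V ≤ V) hc
  have hq1 := K774.D1.isQCoh (K774.D1.isFinLocFree h1)
  have hq3 := K774.D1.isQCoh (K774.D1.isFinLocFree h3)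
  obtain ⟨b₂, hb₂⟩ := exists_sec_trace hq3 (hU.inf hV) (inf_le_right : U ⊓ V ≤ V) hc
    (-(LinearMap.trace Γ(X, (U ⊓ V : X.Opens)) Γ(C.X₁, U ⊓ V) (sec b₁ le_rfl)))
  obtain ⟨φ, hφ1, hφ2, ht⟩ := K774.D1f.exists_filtered.{w} hUV (hU.inf hV) hC hq1 (K774.D1.isFinLocFree h3) b₁ b₂
  refine ⟨U, V, hUV, φ, cls hUV b₁, ⟨b, hb, ?_⟩, hφ1, fun f₁ g₁ w₁ hS₁ hSN h => ?_⟩
  · rw [ht f1 g1 f2 g2 f3 g3, hb₂, add_neg_cancel]
  · rw [hsσ]
    exact hy σ f₁ g₁ w₁ hS₁ hSN (by rw [h, hb₁])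

/-- Traceless filtered classes with given connecting map on `E₂`. -/
theorem exists_quo [HasExt.{w} X.Modules] {N : X.Modules} (hN : PicF.IsInvertible N)
    (s : Coh.HH X ((K774.D1.tw N).obj C.X₃) 0) (hs : s ≠ 0) (β : Coh.HH X ((K774.D1.tw N).obj C.X₃) 1) :
    ∃ (U V : X.Opens) (hUV : U ⊔ V = ⊤) (φ : (TF (U ⊓ V)).obj C.X₂ ⟶ C.X₂) (ε : Ext.{w} C.X₃ C.X₃ 1), Tr C.X₂ r U V φ ∧
      (cls.{w} hUV φ).comp (Ext.mk₀ C.g) (add_zero 1) = (Ext.mk₀ C.g).comp ε (zero_add 1) ∧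
      ∀ {G₁ : X.Modules} (f₁ : C.X₃ ⟶ G₁) (g₁ : G₁ ⟶ C.X₃) (w₁ : f₁ ≫ g₁ = 0)
        (hS₁ : (ShortComplex.mk f₁ g₁ w₁).ShortExact)
        (hSN : ((ShortComplex.mk f₁ g₁ w₁).map (K774.D1.tw N)).ShortExact), hS₁.extClass = ε → δ hSN 0 s = β := by
  obtain ⟨N', hN', ⟨e⟩⟩ := K774.D1.exists_inv hN
  obtain ⟨σ, hsσ⟩ := K774.D1.exists_sec_hom.{w} e s
  obtain ⟨y, hy⟩ := K774.D1.exists_ext.{w} hN e β
  have hσ : σ ≠ 0 := by
    intro h0
    apply hs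
    rw [hsσ, h0, Functor.map_zero, Groth.Agent.CohqB.HSeqMod.hmap_zero_apply]
  obtain ⟨U, V, hU, hV, hUV, c, b, a, hc, hb, ha, b₂, hb₂⟩ := exists_end hdim hN' h3 σ hσ h2 h1 y
  obtain ⟨f1, g1⟩ := free_of_isBasis (inf_le_right : U ⊓ V ≤ V) ha
  obtain ⟨f2, g2⟩ := free_of_isBasis (inf_le_right : U ⊓ V ≤ V) hb
  obtain ⟨f3, g3⟩ := free_of_isBasis (inf_le_right : U ⊓ V ≤ V) hc
  have hq1 := K774.D1.isQCoh (K774.D1.isFinLocFree h1)
  obtain ⟨b₁, hb₁⟩ := exists_sec_trace hq1 (hU.inf hV) (inf_le_right : U ⊓ V ≤ V) ha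
    (-(LinearMap.trace Γ(X, (U ⊓ V : X.Opens)) Γ(C.X₃, U ⊓ V) (sec b₂ le_rfl)))
  obtain ⟨φ, hφ1, hφ2, ht⟩ := K774.D1f.exists_filtered.{w} hUV (hU.inf hV) hC hq1 (K774.D1.isFinLocFree h3) b₁ b₂
  refine ⟨U, V, hUV, φ, cls hUV b₂, ⟨b, hb, ?_⟩, hφ2, fun f₁ g₁ w₁ hS₁ hSN h => ?_⟩
  · rw [ht f1 g1 f2 g2 f3 g3, hb₁, neg_add_cancel]
  · rw [hsσ]
    exact hy σ f₁ g₁ w₁ hS₁ hSN (by rw [h, hb₂])

end General

section Curve

variable {k : Type u} [Field k] {X : Scheme.{u}} [X.Over (Spec (CommRingCat.of k))]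

/-- There are enough admissible filtered first order deformations of the middle term of a short exact sequence. -/
structure _root_.K892.AdmFilt [HasExt.{w} (PicF.XT (st k X) (T0 k)).Modules]
    (Q : ∀ T : Over (B0 k), (ModFun.modProb (st k X)).Fam T → Prop)
    (C : ShortComplex (PicF.XT (st k X) (T0 k)).Modules) (N₀ : (PicF.XT (st k X) (T0 k)).Modules) : Prop where
  sur : ∀ x : Ext.{w} C.X₁ C.X₃ 1, ∃ (G : (PicF.XT (st k X) (T0 k)).Modules) (f : C.X₂ ⟶ G) (g : G ⟶ C.X₂)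
    (w : f ≫ g = 0) (hS : (ShortComplex.mk f g w).ShortExact),
    (Ext.mk₀ C.f).comp (hS.extClass.comp (Ext.mk₀ C.g) (add_zero 1)) (zero_add 1) = x ∧
      Q (Te k) ((dt k X).ES (g ≫ f))
  sub : ∀ (s : Coh.HH _ ((K774.D1.tw N₀).obj C.X₁) 0) (_ : s ≠ 0) (β : Coh.HH _ ((K774.D1.tw N₀).obj C.X₁) 1),
    ∃ (G : (PicF.XT (st k X) (T0 k)).Modules) (f : C.X₂ ⟶ G) (g : G ⟶ C.X₂)
      (w : f ≫ g = 0) (hS : (ShortComplex.mk f g w).ShortExact) (ε : Ext.{w} C.X₁ C.X₁ 1),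
      (Ext.mk₀ C.f).comp hS.extClass (zero_add 1) = ε.comp (Ext.mk₀ C.f) (add_zero 1) ∧
      Q (Te k) ((dt k X).ES (g ≫ f)) ∧
      ∀ {G₁ : (PicF.XT (st k X) (T0 k)).Modules} (f₁ : C.X₁ ⟶ G₁) (g₁ : G₁ ⟶ C.X₁) (w₁ : f₁ ≫ g₁ = 0)
        (h₁ : (ShortComplex.mk f₁ g₁ w₁).ShortExact)
        (hN : ((ShortComplex.mk f₁ g₁ w₁).map (K774.D1.tw N₀)).ShortExact), h₁.extClass = ε → δ hN 0 s = β
  quo : ∀ (s : Coh.HH _ ((K774.D1.tw N₀).obj C.X₃) 0) (_ : s ≠ 0) (β : Coh.HH _ ((K774.D1.tw N₀).obj C.X₃) 1),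
    ∃ (G : (PicF.XT (st k X) (T0 k)).Modules) (f : C.X₂ ⟶ G) (g : G ⟶ C.X₂)
      (w : f ≫ g = 0) (hS : (ShortComplex.mk f g w).ShortExact) (ε : Ext.{w} C.X₃ C.X₃ 1),
      hS.extClass.comp (Ext.mk₀ C.g) (add_zero 1) = (Ext.mk₀ C.g).comp ε (zero_add 1) ∧
      Q (Te k) ((dt k X).ES (g ≫ f)) ∧
      ∀ {G₁ : (PicF.XT (st k X) (T0 k)).Modules} (f₁ : C.X₃ ⟶ G₁) (g₁ : G₁ ⟶ C.X₃) (w₁ : f₁ ≫ g₁ = 0)
        (h₁ : (ShortComplex.mk f₁ g₁ w₁).ShortExact)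
        (hN : ((ShortComplex.mk f₁ g₁ w₁).map (K774.D1.tw N₀)).ShortExact), h₁.extClass = ε → δ hN 0 s = β

/-- `AdmFilt` for a problem which contains the families of traceless Čech extensions. -/
theorem main [IsIntegral X] [IsProper (X ↘ Spec (CommRingCat.of k))] (hdim : topologicalKrullDim X ≤ 1)
    [HasExt.{w} (PicF.XT (st k X) (T0 k)).Modules]
    {Q : ∀ T : Over (B0 k), (ModFun.modProb (st k X)).Fam T → Prop}
    {C : ShortComplex (PicF.XT (st k X) (T0 k)).Modules} (hC : C.ShortExact) {r n₁ n₃ : ℕ}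
    (h1 : FlatMod.IsFinLocFreeOfRank (n₁ + 1) C.X₁) (h2 : FlatMod.IsFinLocFreeOfRank r C.X₂)
    (h3 : FlatMod.IsFinLocFreeOfRank (n₃ + 1) C.X₃) {N₀ : (PicF.XT (st k X) (T0 k)).Modules}
    (hN : PicF.IsInvertible N₀)
    (hQ : ∀ (U V : (PicF.XT (st k X) (T0 k)).Opens) (_ : U ⊔ V = ⊤) (φ : (TF (U ⊓ V)).obj C.X₂ ⟶ C.X₂),
      Tr C.X₂ r U V φ → Q (Te k) ((dt k X).ES ((Sx U V φ).g ≫ (Sx U V φ).f))) : AdmFilt.{w} Q C N₀ := by
  have i1 := K562.AdmExt.isIntegral_XT0 k X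
  have i2 := K562.AdmExt.isSeparated_XT0 k X
  have i3 := K562.AdmExt.isNoetherian_XT0 k X
  have hd := (K562.AdmExt.dim_XT0 k X).trans_le hdim
  constructor
  · intro x
    obtain ⟨U, V, hUV, φ, ht, hx⟩ := exists_sur hd hC h1 h2 h3 x
    refine ⟨_, (Sx U V φ).f, (Sx U V φ).g, (Sx U V φ).zero, shortExact_Sx hUV φ, ?_, hQ U V hUV φ ht⟩
    rw [← hx, ← extClass_Sx hUV φ]
  · intro s hs β
    obtain ⟨U, V, hUV, φ, ε, ht, hx, hδ⟩ := exists_sub.{w} hd hC h1 h2 h3 hN s hs β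
    refine ⟨_, (Sx U V φ).f, (Sx U V φ).g, (Sx U V φ).zero, shortExact_Sx hUV φ, ε, ?_, hQ U V hUV φ ht, hδ⟩
    rw [← hx, ← extClass_Sx hUV φ]
  · intro s hs β
    obtain ⟨U, V, hUV, φ, ε, ht, hx, hδ⟩ := exists_quo.{w} hd hC h1 h2 h3 hN s hs β
    refine ⟨_, (Sx U V φ).f, (Sx U V φ).g, (Sx U V φ).zero, shortExact_Sx hUV φ, ε, ?_, hQ U V hUV φ ht, hδ⟩
    rw [← hx, ← extClass_Sx hUV φ]

/-- Extensions of a semistable bundle by itself are admissible. -/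
theorem uss_ES {r : ℕ} {d : ℤ} {E₀ G : (PicF.XT (st k X) (T0 k)).Modules}
    (hE : BunMod.ussOK (st k X) r d (T0 k) E₀) {f : E₀ ⟶ G} {g : G ⟶ E₀} {w : f ≫ g = 0}
    (hS : (ShortComplex.mk f g w).ShortExact) : BunMod.ussOK (st k X) r d (Te k) ((dt k X).ES (g ≫ f)) :=
  ⟨K562.AdmExt.rank_ES hS hE.1,
    K977.Fam.fibDeg_of_thick _ (iT k) K562.AdmExt.exists_fac_iT (K562.AdmExt.nonempty_iso hS hE.1) hE.2.1,
    K977.Fam.fibSemistable_of_thick _ (iT k) K562.AdmExt.exists_fac_iT (K562.AdmExt.nonempty_iso hS hE.1) hE.2.2⟩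

/-- Traceless Čech extensions of a semistable bundle by itself are admissible for the fixed determinant problem. -/
theorem ussDet_ES {r : ℕ} {L : X.Modules} {E₀ : (PicF.XT (st k X) (T0 k)).Modules}
    (hE : BunMod.ussDetOK (st k X) r L (T0 k) E₀) {U V : (PicF.XT (st k X) (T0 k)).Opens} (hUV : U ⊔ V = ⊤)
    (φ : (TF (U ⊓ V)).obj E₀ ⟶ E₀) (h : Tr E₀ r U V φ) :
    BunMod.ussDetOK (st k X) r L (Te k) ((dt k X).ES ((Sx U V φ).g ≫ (Sx U V φ).f)) := by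
  obtain ⟨b, hb, htr⟩ := h
  have hS := shortExact_Sx hUV φ
  obtain ⟨D', hD'⟩ := Groth.Agent.Krr.H482.PullFinal.exists_isExtPow' _ r
    ((dt k X).ES ((Sx U V φ).g ≫ (Sx U V φ).f))
    (K774.D1.isFinLocFree (K562.AdmExt.rank_ES (w := (Sx U V φ).zero) hS hE.1))
  obtain ⟨D₀, hD₀, M, hM, ⟨eM⟩⟩ := hE.2.1
  obtain ⟨e1⟩ := K562.AdmExt.det_ES (dt k X) hE.1 hUV hb φ htr hD₀ (w := (Sx U V φ).zero) hS (locSx U V φ) hD'
  refine ⟨K562.AdmExt.rank_ES (w := (Sx U V φ).zero) hS hE.1, ?_,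
    K977.Fam.fibSemistable_of_thick _ (iT k) K562.AdmExt.exists_fac_iT
      (K562.AdmExt.nonempty_iso (w := (Sx U V φ).zero) hS hE.1) hE.2.2⟩
  refine ⟨D', hD', (Scheme.Modules.pullback (qT k).left).obj M,
    Groth.Agent.Fdesc.LocGen.isInvertible_pullback _ hM, ⟨e1 ≪≫ ?_⟩⟩
  refine (Scheme.Modules.pullback _).mapIso eM ≪≫ K977.Lift.pullTens _ _ _ ≪≫
    K977.Lift.tensIso (K977.Fam.plCst (qT k) L) ?_
  exact (Scheme.Modules.pullbackComp _ _).app M ≪≫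
    (Scheme.Modules.pullbackCongr (K977.Fam.XTmap_snd (st k X) (qT k))).app M ≪≫
    (Scheme.Modules.pullbackComp _ _).symm.app M

/-- The semistable families. -/
theorem uss [IsIntegral X] [IsProper (X ↘ Spec (CommRingCat.of k))] (hdim : topologicalKrullDim X ≤ 1)
    [HasExt.{w} (PicF.XT (st k X) (T0 k)).Modules] {r n₁ n₃ : ℕ} {d : ℤ}
    {C : ShortComplex (PicF.XT (st k X) (T0 k)).Modules} (hC : C.ShortExact)
    (h1 : FlatMod.IsFinLocFreeOfRank (n₁ + 1) C.X₁) (h3 : FlatMod.IsFinLocFreeOfRank (n₃ + 1) C.X₃)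
    (hQ : BunMod.ussOK (st k X) r d (T0 k) C.X₂) {N₀ : (PicF.XT (st k X) (T0 k)).Modules}
    (hN : PicF.IsInvertible N₀) : AdmFilt.{w} (BunMod.ussOK (st k X) r d) C N₀ :=
  main hdim hC h1 hQ.1 h3 hN fun U V hUV φ _ => uss_ES (w := (Sx U V φ).zero) hQ (shortExact_Sx hUV φ)

/-- The semistable families with fixed determinant. -/
theorem ussDet [IsIntegral X] [IsProper (X ↘ Spec (CommRingCat.of k))] (hdim : topologicalKrullDim X ≤ 1)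
    [HasExt.{w} (PicF.XT (st k X) (T0 k)).Modules] {r n₁ n₃ : ℕ} {L : X.Modules}
    {C : ShortComplex (PicF.XT (st k X) (T0 k)).Modules} (hC : C.ShortExact)
    (h1 : FlatMod.IsFinLocFreeOfRank (n₁ + 1) C.X₁) (h3 : FlatMod.IsFinLocFreeOfRank (n₃ + 1) C.X₃)
    (hQ : BunMod.ussDetOK (st k X) r L (T0 k) C.X₂) {N₀ : (PicF.XT (st k X) (T0 k)).Modules}
    (hN : PicF.IsInvertible N₀) : AdmFilt.{w} (BunMod.ussDetOK (st k X) r L) C N₀ :=
  main hdim hC h1 hQ.1 h3 hN fun _ _ hUV φ h => ussDet_ES hQ hUV φ h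

end Curve

end K892.AdmFilt
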