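import Groth.Agent.BunMod.K822.XTD
import Groth.Agent.BunMod.K311.KE

/-!
# Coherence of the base change of constant families

For `i ≫ v = z` the identification `L_A ≅ z^* L_C` is the composite of `L_A ≅ i^* L_B`, `L_B ≅ v^* L_C` and
`i^* v^* ≅ z^*`.
-/

set_option autoImplicit false
universe u

open CategoryTheory CategoryTheory.Limits AlgebraicGeometry

namespace K892.CstCoh

open K140.BM K822.Tr K822.XTD K311.KE

theorem assoc_app {A B C X : Scheme.{u}} (i : A ⟶ B) (v : B ⟶ C) (pC : C ⟶ X) (L : X.Modules)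
    (hC : i ≫ v ≫ pC = (i ≫ v) ≫ pC) :
    (Scheme.Modules.pullback i).map ((Scheme.Modules.pullbackComp v pC).inv.app L) ≫
        (Scheme.Modules.pullbackComp i v).hom.app ((Scheme.Modules.pullback pC).obj L) =
    (Scheme.Modules.pullbackComp i (v ≫ pC)).hom.app L ≫ (Scheme.Modules.pullbackCongr hC).hom.app L ≫
      (Scheme.Modules.pullbackComp (i ≫ v) pC).inv.app L := by
  have h4 := Scheme.Modules.pseudofunctor_associativity (f := i) (g := v) (h := pC)
  have h5 : (Scheme.Modules.pullbackCongr hC).hom = eqToHom (by simp) := rfl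
  rw [← h5] at h4
  rw [← h4]
  simp

/-- The identification of a constant module. -/
noncomputable def cI {A C X : Scheme.{u}} (z : A ⟶ C) {pA : A ⟶ X} {pC : C ⟶ X} (h : z ≫ pC = pA) (L : X.Modules) :
    (Scheme.Modules.pullback pA).obj L ⟶ (Scheme.Modules.pullback z).obj ((Scheme.Modules.pullback pC).obj L) :=
  (Scheme.Modules.pullbackCongr h.symm).hom.app L ≫ (Scheme.Modules.pullbackComp z pC).inv.app L

theorem cI_rfl {A C X : Scheme.{u}} (z : A ⟶ C) (pC : C ⟶ X) (L : X.Modules) :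
    cI z (rfl : z ≫ pC = z ≫ pC) L = (Scheme.Modules.pullbackComp z pC).inv.app L := by
  have h1 : (Scheme.Modules.pullbackCongr (rfl : z ≫ pC = z ≫ pC)).hom = 𝟙 _ := rfl
  unfold cI
  rw [h1, NatTrans.id_app, Category.id_comp]

theorem tr_rfl {A B C : Scheme.{u}} (i : A ⟶ B) (v : B ⟶ C) (M : C.Modules) :
    (tr i v rfl M).hom = (Scheme.Modules.pullbackComp i v).hom.app M := by
  have h3 : (Scheme.Modules.pullbackCongr (rfl : i ≫ v = i ≫ v)).hom = 𝟙 _ := rfl
  unfold tr
  rw [Iso.trans_hom, Iso.app_hom, Iso.app_hom, h3, NatTrans.id_app, Category.comp_id]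

theorem coh {A B C X : Scheme.{u}} (i : A ⟶ B) (v : B ⟶ C) {z : A ⟶ C} (h : i ≫ v = z) {pA : A ⟶ X}
    {pB : B ⟶ X} {pC : C ⟶ X} (hB : v ≫ pC = pB) (hA : i ≫ pB = pA) (hC : z ≫ pC = pA) (L : X.Modules) :
    cI z hC L = cI i hA L ≫ (Scheme.Modules.pullback i).map (cI v hB L) ≫
          (tr i v h ((Scheme.Modules.pullback pC).obj L)).hom := by
  subst h
  subst hB
  subst hA
  rw [cI_rfl, cI_rfl, tr_rfl, assoc_app i v pC L hC.symm]
  unfold cI
  have h6 := congrArg (fun t => t.app L) (Scheme.Modules.pullbackComp i (v ≫ pC)).inv_hom_id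
  rw [NatTrans.comp_app, NatTrans.id_app] at h6
  refine Eq.trans ?_ (Category.assoc _ _ _)
  refine Eq.trans ?_ (congrArg (· ≫ (Scheme.Modules.pullbackCongr hC.symm).hom.app L ≫
    (Scheme.Modules.pullbackComp (i ≫ v) pC).inv.app L) h6.symm)
  exact (Category.id_comp _).symm

theorem cI_eq {A C X : Scheme.{u}} (z : A ⟶ C) {pA : A ⟶ X} {pC : C ⟶ X} (h : z ≫ pC = pA) (L : X.Modules)
    {e : Scheme.Modules.pullback pA ≅ Scheme.Modules.pullback pC ⋙ Scheme.Modules.pullback z}
    (he : e = Scheme.Modules.pullbackCongr h.symm ≪≫ (Scheme.Modules.pullbackComp z pC).symm) :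
    e.hom.app L = cI z h L := by
  rw [he, Iso.trans_hom, NatTrans.comp_app, Iso.symm_hom]
  rfl

theorem coh' {A B C X : Scheme.{u}} (i : A ⟶ B) (v : B ⟶ C) {z : A ⟶ C} (h : i ≫ v = z) {pA : A ⟶ X}
    {pB : B ⟶ X} {pC : C ⟶ X} (hB : v ≫ pC = pB) (hA : i ≫ pB = pA) (hC : z ≫ pC = pA) (L : X.Modules)
    {eC : Scheme.Modules.pullback pA ≅ Scheme.Modules.pullback pC ⋙ Scheme.Modules.pullback z}
    (heC : eC = Scheme.Modules.pullbackCongr hC.symm ≪≫ (Scheme.Modules.pullbackComp z pC).symm)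
    {eA : Scheme.Modules.pullback pA ≅ Scheme.Modules.pullback pB ⋙ Scheme.Modules.pullback i}
    (heA : eA = Scheme.Modules.pullbackCongr hA.symm ≪≫ (Scheme.Modules.pullbackComp i pB).symm)
    {eB : Scheme.Modules.pullback pB ≅ Scheme.Modules.pullback pC ⋙ Scheme.Modules.pullback v}
    (heB : eB = Scheme.Modules.pullbackCongr hB.symm ≪≫ (Scheme.Modules.pullbackComp v pC).symm)
    {t : (Scheme.Modules.pullback i).obj ((Scheme.Modules.pullback v).obj ((Scheme.Modules.pullback pC).obj L)) ≅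
      (Scheme.Modules.pullback z).obj ((Scheme.Modules.pullback pC).obj L)}
    (ht : t = tr i v h ((Scheme.Modules.pullback pC).obj L)) :
    eC.hom.app L = eA.hom.app L ≫ (Scheme.Modules.pullback i).map (eB.hom.app L) ≫ t.hom := by
  rw [cI_eq z hC L heC, cI_eq i hA L heA, cI_eq v hB L heB, ht]
  exact coh i v h hB hA hC L

variable {k : Type u} [Field k] {X : Scheme.{u}} [X.Over (Spec (CommRingCat.of k))]

/-- The cocycle condition for constant families. -/
theorem cstI_coh {T : Over (B0 k)} {z : T0 k ⟶ T} {v : Te k ⟶ T} (hv : iT k ≫ v = z) (L : X.Modules) :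
    (cstI z L).hom = (cstI (iT k) L).hom ≫
      (Scheme.Modules.pullback (dt k X).i).map (cstI v L).hom ≫ (rv hv (cst k T L)).hom :=
  coh' (A := PicF.XT (st k X) (T0 k)) (B := PicF.XT (st k X) (Te k)) (C := PicF.XT (st k X) T) (dt k X).i
    (PicF.XTmap (st k X) v) (di_v hv) (XTmap_fst v) (XTmap_fst (iT k))
    (XTmap_fst z) L (eC := cstN z) rfl (eA := cstN (iT k)) rfl (eB := cstN v) rfl rfl

end K892.CstCoh
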