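import Groth.Agent.Fdesc.GeomRed
import Mathlib.RingTheory.Nullstellensatz
import Mathlib.RingTheory.Jacobson.Ring
import Mathlib.FieldTheory.Perfect
import Mathlib.RingTheory.TensorProduct.Maps

/-!
# Functions constant on the fibres of a dominant morphism (characteristic zero)

`exists_frac`: `A ⊆ H` domains of finite type over an algebraically closed field `k` of characteristic zero, `u ∈ H`
such that two `k`-points of `H` with the same restriction to `A` have the same value at `u`; then `u` is in the
fraction field of `A`.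
-/

set_option autoImplicit false

universe u v w

open TensorProduct

namespace K892.FracFib

/-- an element of a finite type algebra killed by all points is nilpotent -/
theorem isNilpotent_of_points {k : Type u} [Field k] [IsAlgClosed k] {R : Type v} [CommRing R] [Algebra k R]
    [Algebra.FiniteType k R] (t : R) (h : ∀ x : R →ₐ[k] k, x t = 0) : IsNilpotent t := by
  have hJ : IsJacobsonRing R := isJacobsonRing_of_finiteType (A := k)
  rw [nilpotent_iff_mem_prime]
  intro P hP
  have hrad : P.jacobson = P := (isJacobsonRing_iff_prime_eq.1 hJ) P hP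
  rw [← hrad, Ideal.jacobson, Ideal.mem_sInf]
  intro m hm
  have hmax : m.IsMaximal := hm.2
  let _ : Field (R ⧸ m) := Ideal.Quotient.field m
  have hfin : Module.Finite k (R ⧸ m) := finite_of_finite_type_of_isJacobsonRing k (R ⧸ m)
  have hbij : Function.Bijective (algebraMap k (R ⧸ m)) :=
    IsAlgClosed.algebraMap_bijective_of_isIntegral (k := k) (K := R ⧸ m)
  let e : k ≃ₐ[k] (R ⧸ m) := AlgEquiv.ofBijective (Algebra.ofId k (R ⧸ m)) hbij
  have h1 := h ((e.symm : (R ⧸ m) →ₐ[k] k).comp (Ideal.Quotient.mkₐ k m))
  have h2 : Ideal.Quotient.mk m t = 0 := by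
    have h3 : e.symm (Ideal.Quotient.mk m t) = 0 := h1
    exact (map_eq_zero_iff e.symm e.symm.injective).1 h3
  exact Ideal.Quotient.eq_zero_iff_mem.1 h2

theorem mem_of_tmul_eq {K : Type u} {L : Type v} [Field K] [Field L] [Algebra K L] (u : L)
    (h : (u ⊗ₜ[K] (1 : L)) = (1 : L) ⊗ₜ[K] u) : ∃ c : K, algebraMap K L c = u := by
  by_contra hne
  push Not at hne
  have hu : u ∉ (Submodule.span K {(1 : L)}) := by
    intro hm
    obtain ⟨c, hc⟩ := Submodule.mem_span_singleton.1 hm
    exact hne c (by rw [Algebra.algebraMap_eq_smul_one, hc])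
  obtain ⟨f, hf1, hf2⟩ := Submodule.exists_dual_map_eq_bot_of_notMem hu inferInstance
  have hf : f 1 = 0 := by
    have : f 1 ∈ (Submodule.span K {(1 : L)}).map f := ⟨1, Submodule.mem_span_singleton_self 1, rfl⟩
    rw [hf2] at this
    exact (Submodule.mem_bot K).1 this
  have h2 := congrArg ((TensorProduct.lid K L).toLinearMap ∘ₗ f.rTensor L) h
  simp only [LinearMap.coe_comp, LinearEquiv.coe_coe, Function.comp_apply, LinearMap.rTensor_tmul,
    TensorProduct.lid_tmul, hf, zero_smul] at h2
  rw [← Algebra.algebraMap_eq_smul_one] at h2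
  exact hf1 ((map_eq_zero_iff _ (algebraMap K L).injective).1 h2)

theorem exists_frac {k : Type u} [Field k] [IsAlgClosed k] [CharZero k] {A : Type v} {H : Type w} [CommRing A] [IsDomain A]
    [CommRing H] [IsDomain H] [Algebra k A] [Algebra k H] [Algebra A H] [IsScalarTower k A H]
    [Algebra.FiniteType k H]
    (hinj : Function.Injective (algebraMap A H)) (u : H)
    (hu : ∀ x y : H →ₐ[k] k, (∀ a, x (algebraMap A H a) = y (algebraMap A H a)) → x u = y u) :
    ∃ a b : A, algebraMap A H b ≠ 0 ∧ algebraMap A H b * u = algebraMap A H a := by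
  have : Algebra.FiniteType k (H ⊗[A] H) := by
    have : Algebra.FiniteType A H := Algebra.FiniteType.of_restrictScalars_finiteType k A H
    have : Algebra.FiniteType H (H ⊗[A] H) := inferInstance
    exact Algebra.FiniteType.trans (S := H) inferInstance inferInstance
  obtain ⟨n, hn⟩ := isNilpotent_of_points (k := k) (u ⊗ₜ[A] (1 : H) - (1 : H) ⊗ₜ[A] u) (fun x => by
    have h1 := hu (x.comp ((Algebra.TensorProduct.includeLeft : H →ₐ[A] H ⊗[A] H).restrictScalars k))
      (x.comp ((Algebra.TensorProduct.includeRight : H →ₐ[A] H ⊗[A] H).restrictScalars k)) (fun a => by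
        simp only [AlgHom.coe_comp, AlgHom.coe_restrictScalars', Function.comp_apply, AlgHom.commutes])
    simp only [AlgHom.coe_comp, AlgHom.coe_restrictScalars', Function.comp_apply,
      Algebra.TensorProduct.includeLeft_apply, Algebra.TensorProduct.includeRight_apply] at h1
    rw [map_sub, h1, sub_self])
  let K := FractionRing A
  let L := FractionRing H
  have : FaithfulSMul A H := (faithfulSMul_iff_algebraMap_injective A H).2 hinj
  let _ : Algebra K L := FractionRing.liftAlgebra A L
  have : IsScalarTower A K L := FractionRing.isScalarTower_liftAlgebra A L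
  have : CharZero A := by
    have : FaithfulSMul k A := inferInstance
    exact charZero_of_injective_algebraMap (R := k) (algebraMap k A).injective
  have : CharZero K := charZero_of_injective_algebraMap (R := A) (IsFractionRing.injective A K)
  have : PerfectField K := inferInstance
  have hred : _root_.IsReduced (L ⊗[K] L) := Groth.Agent.Fdesc.GeomRed.isReduced_tensor_of_perfectField (k := K) L L
  let ψ : H ⊗[A] H →ₐ[A] L ⊗[K] L :=
    Algebra.TensorProduct.lift
      (((Algebra.TensorProduct.includeLeft : L →ₐ[K] L ⊗[K] L).restrictScalars A).comp (IsScalarTower.toAlgHom A H L))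
      (((Algebra.TensorProduct.includeRight : L →ₐ[K] L ⊗[K] L).restrictScalars A).comp (IsScalarTower.toAlgHom A H L))
      (fun _ _ => Commute.all _ _)
  have h2 : ψ (u ⊗ₜ[A] (1 : H) - (1 : H) ⊗ₜ[A] u) = 0 := by
    have : IsNilpotent (ψ (u ⊗ₜ[A] (1 : H) - (1 : H) ⊗ₜ[A] u)) := ⟨n, by rw [← map_pow, hn, map_zero]⟩
    exact this.eq_zero
  have h3 : (algebraMap H L u) ⊗ₜ[K] (1 : L) = (1 : L) ⊗ₜ[K] (algebraMap H L u) := by
    rw [← sub_eq_zero, ← h2]
    simp [ψ]
  obtain ⟨c, hc⟩ := mem_of_tmul_eq _ h3
  obtain ⟨a, b, hb, rfl⟩ := IsFractionRing.div_surjective (A := A) c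
  refine ⟨a, b, fun h => ?_, ?_⟩
  · rw [map_eq_zero_iff _ hinj] at h
    exact (mem_nonZeroDivisors_iff_ne_zero.1 hb) h
  · apply IsFractionRing.injective H L
    have hb0 : algebraMap A K b ≠ 0 := by
      rw [Ne, map_eq_zero_iff _ (IsFractionRing.injective A K)]
      exact mem_nonZeroDivisors_iff_ne_zero.1 hb
    have h4 : ∀ x : A, algebraMap H L (algebraMap A H x) = algebraMap K L (algebraMap A K x) := fun x => by
      rw [← IsScalarTower.algebraMap_apply A H L, ← IsScalarTower.algebraMap_apply A K L]
    rw [map_mul, ← hc, h4, h4, ← map_mul, mul_div_cancel₀ _ hb0]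

end K892.FracFib
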