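import Mathlib.LinearAlgebra.Eigenspace.Zero
import Mathlib.LinearAlgebra.Eigenspace.Charpoly
import Mathlib.LinearAlgebra.Eigenspace.Triangularizable
import Mathlib.FieldTheory.IsAlgClosed.Basic

/-!
# Determinants in two representations of an algebra

`det_eq`: `ρ`, `σ` finite dimensional representations of a `k`-algebra `R` (`k` algebraically closed), `φ ∈ R`
integral over `k`; if `ρ e` and `σ e` have the same rank for every idempotent `e` of `R` then
`det (ρ φ) = det (σ φ)`.
-/

set_option autoImplicit false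

open Polynomial Module

namespace K892.LinDet

variable {k : Type*} [Field k]

/-- The generalized eigenspace is the image of an idempotent which is a polynomial. -/
theorem range_eq {V : Type*} [AddCommGroup V] [Module k V] (f : Module.End k V) (μ : k) (p s u v : k[X]) (n : ℕ)
    (hp : aeval f p = 0) (hs : p = (X - C μ) ^ n * s) (hcop1 : IsCoprime (X - C μ) s)
    (huv : u * (X - C μ) ^ n + v * s = 1) :
    LinearMap.range (aeval f (v * s)) = f.maxGenEigenspace μ := by
  have hX : ∀ m : ℕ, aeval f ((X - C μ) ^ m) = (f - μ • 1) ^ m := fun m => by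
    rw [map_pow, map_sub, aeval_X, aeval_C, Algebra.algebraMap_eq_smul_one]
  apply le_antisymm
  · rintro _ ⟨y, rfl⟩
    rw [Module.End.mem_maxGenEigenspace]
    refine ⟨n, ?_⟩
    rw [← hX, ← Module.End.mul_apply, ← map_mul]
    have h1 : (X - C μ) ^ n * (v * s) = p * v := by
      rw [hs]
      ring
    rw [h1, map_mul, hp, zero_mul, LinearMap.zero_apply]
  · intro x hx
    rw [Module.End.mem_maxGenEigenspace] at hx
    obtain ⟨m, hm⟩ := hx
    rw [← hX] at hm
    obtain ⟨a, b, hab⟩ : IsCoprime ((X - C μ) ^ m) s := hcop1.pow_left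
    have h1 : aeval f ((X - C μ) ^ n) x = 0 := by
      have h2 : (X - C μ) ^ n = a * (X - C μ) ^ n * (X - C μ) ^ m + b * p := by
        calc (X - C μ) ^ n = (X - C μ) ^ n * (a * (X - C μ) ^ m + b * s) := by rw [hab, mul_one]
          _ = a * (X - C μ) ^ n * (X - C μ) ^ m + b * p := by
            rw [hs]
            ring
      rw [h2, map_add, map_mul _ b p, hp, mul_zero, add_zero, map_mul, Module.End.mul_apply, hm, map_zero]
    refine ⟨x, ?_⟩
    have h3 : v * s = 1 - u * (X - C μ) ^ n := by rw [← huv]; ring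
    rw [h3, map_sub, map_one, LinearMap.sub_apply, Module.End.one_apply, map_mul, Module.End.mul_apply, h1,
      map_zero, sub_zero]

theorem charpoly_eq [IsAlgClosed k] {R : Type*} [Ring R] [Algebra k R] {V W : Type*} [AddCommGroup V] [Module k V]
    [FiniteDimensional k V] [AddCommGroup W] [Module k W] [FiniteDimensional k W]
    (ρ : R →ₐ[k] Module.End k V) (σ : R →ₐ[k] Module.End k W) (φ : R) (hφ : IsIntegral k φ)
    (h : ∀ e : R, e * e = e → finrank k (LinearMap.range (ρ e)) = finrank k (LinearMap.range (σ e))) :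
    (ρ φ).charpoly = (σ φ).charpoly := by
  classical
  have h1 : ∀ μ, (ρ φ).charpoly.rootMultiplicity μ = (σ φ).charpoly.rootMultiplicity μ := fun μ => by
    obtain ⟨p, hp, hp0⟩ := hφ
    have hpφ : aeval φ p = 0 := hp0
    obtain ⟨s, hs, hsμ⟩ := exists_eq_pow_rootMultiplicity_mul_and_not_dvd p hp.ne_zero μ
    generalize p.rootMultiplicity μ = n at hs
    have hcop1 : IsCoprime (X - C μ) s := ((prime_X_sub_C μ).irreducible.coprime_iff_not_dvd).2 hsμ
    obtain ⟨u, v, huv⟩ : IsCoprime ((X - C μ) ^ n) s := hcop1.pow_left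
    have hidem : aeval φ (v * s) * aeval φ (v * s) = aeval φ (v * s) := by
      have h1 : (v * s) * (1 - v * s) = p * (v * u) := by
        have : 1 - v * s = u * (X - C μ) ^ n := by rw [← huv]; ring
        rw [this, hs]
        ring
      have h2 : aeval φ ((v * s) * (1 - v * s)) = 0 := by rw [h1, map_mul, hpφ, zero_mul]
      rw [map_mul (aeval φ) (v * s) (1 - v * s), map_sub, map_one, mul_sub, mul_one, sub_eq_zero] at h2
      exact h2.symm
    have h3 := h _ hidem
    have e1 : ρ (aeval φ (v * s)) = aeval (ρ φ) (v * s) := (aeval_algHom_apply ρ φ _).symm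
    have e2 : σ (aeval φ (v * s)) = aeval (σ φ) (v * s) := (aeval_algHom_apply σ φ _).symm
    have hp1 : aeval (ρ φ) p = 0 := by rw [aeval_algHom_apply, hpφ, map_zero]
    have hp2 : aeval (σ φ) p = 0 := by rw [aeval_algHom_apply, hpφ, map_zero]
    rw [e1, e2, range_eq (ρ φ) μ p s u v n hp1 hs hcop1 huv, range_eq (σ φ) μ p s u v n hp2 hs hcop1 huv,
      LinearMap.finrank_maxGenEigenspace_eq, LinearMap.finrank_maxGenEigenspace_eq] at h3
    exact h3
  have h2 : (ρ φ).charpoly.roots = (σ φ).charpoly.roots := Multiset.ext.2 fun μ => by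
    rw [count_roots, count_roots, h1]
  have h3 := (IsAlgClosed.splits (ρ φ).charpoly).eq_prod_roots_of_monic (ρ φ).charpoly_monic
  have h4 := (IsAlgClosed.splits (σ φ).charpoly).eq_prod_roots_of_monic (σ φ).charpoly_monic
  rw [h3, h4, h2]

theorem det_eq [IsAlgClosed k] {R : Type*} [Ring R] [Algebra k R] {V W : Type*} [AddCommGroup V] [Module k V]
    [FiniteDimensional k V] [AddCommGroup W] [Module k W] [FiniteDimensional k W]
    (ρ : R →ₐ[k] Module.End k V) (σ : R →ₐ[k] Module.End k W) (φ : R) (hφ : IsIntegral k φ)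
    (h : ∀ e : R, e * e = e → finrank k (LinearMap.range (ρ e)) = finrank k (LinearMap.range (σ e))) :
    LinearMap.det (ρ φ) = LinearMap.det (σ φ) := by
  rw [Module.End.det_eq_prod_roots_charpoly_of_splits (IsAlgClosed.splits _),
    Module.End.det_eq_prod_roots_charpoly_of_splits (IsAlgClosed.splits _), charpoly_eq ρ σ φ hφ h]

end K892.LinDet
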